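import Mathlib.Data.Finsupp.Multiset
import Mathlib.Data.Sym.Card
import Mathlib.RingTheory.MvPolynomial.Homogeneous
import Mathlib.RingTheory.Finiteness.Finsupp
import Mathlib.LinearAlgebra.Dimension.Constructions
import Mathlib.LinearAlgebra.FreeModule.StrongRankCondition

/-!
# The dimension of the space of forms of a given degree
-/

set_option autoImplicit false

open MvPolynomial

namespace Groth.Agent.PlanePts

abbrev Mon (n d : ℕ) : Type := {m : Fin n →₀ ℕ // m.degree = d}

noncomputable instance instFintypeMon (n d : ℕ) : Fintype (Mon n d) :=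
  Fintype.ofEquiv _ ((Sym.equivNatSum (Fin n) d).trans (Equiv.subtypeEquivRight fun m => by
    simp [Finsupp.sum]; rfl))

theorem card_mon (n d : ℕ) : Fintype.card (Mon (n + 1) d) = (n + d).choose n := by
  rw [← Fintype.card_congr ((Sym.equivNatSum (Fin (n + 1)) d).trans
      (Equiv.subtypeEquivRight (q := fun m : Fin (n + 1) →₀ ℕ => m.degree = d) fun m => by
        simp [Finsupp.sum]; rfl)),
    Sym.card_sym_eq_multichoose, Fintype.card_fin, Nat.multichoose_eq,
    show n + 1 + d - 1 = n + d by omega, Nat.choose_symm_add]

variable (R : Type*) [CommRing R] (n d : ℕ)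

/-- coordinates on forms -/
noncomputable def formsEquiv : homogeneousSubmodule (Fin n) R d ≃ₗ[R] (Mon n d → R) where
  toFun G m := coeff m.1 G.1
  invFun c := ⟨∑ m : Mon n d, monomial m.1 (c m),
    Submodule.sum_mem _ fun m _ => (mem_homogeneousSubmodule d _).2 (isHomogeneous_monomial _ m.2)⟩
  map_add' G H := funext fun m => by simp
  map_smul' t G := funext fun m => by simp
  left_inv G := Subtype.ext <| by
    classical
    ext a
    simp only [coeff_sum, coeff_monomial]
    by_cases ha : a.degree = d
    · rw [Finset.sum_eq_single ⟨a, ha⟩] <;> simp +contextual [Subtype.ext_iff]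
    · rw [((mem_homogeneousSubmodule d _).1 G.2).coeff_eq_zero ha, Finset.sum_eq_zero]
      intro m _
      rw [if_neg]
      rintro rfl
      exact ha m.2
  right_inv c := funext fun m => by
    classical
    simp [coeff_sum, coeff_monomial, ← Subtype.ext_iff]

instance instFiniteForms : Module.Finite R (homogeneousSubmodule (Fin n) R d) :=
  Module.Finite.equiv (formsEquiv R n d).symm

theorem finrank_forms [Nontrivial R] :
    Module.finrank R (homogeneousSubmodule (Fin (n + 1)) R d) = (n + d).choose n := by
  rw [(formsEquiv R (n + 1) d).finrank_eq, Module.finrank_fintype_fun_eq_card, card_mon]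

end Groth.Agent.PlanePts
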