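import Groth.Agent.PlanePts.Forms
import Mathlib.RingTheory.Ideal.Maps
import Mathlib.Algebra.Module.SpanRankOperations
import Mathlib.LinearAlgebra.Dimension.Free
import Mathlib.LinearAlgebra.Basis.VectorSpace
import Mathlib.LinearAlgebra.Dual.Lemmas
import Mathlib.LinearAlgebra.FiniteDimensional.Lemmas
import Mathlib.RingTheory.Localization.FractionRing
import Mathlib.RingTheory.Polynomial.Basic

/-!
# The ideal of points in the plane needs at most `d + 1` generators, `d` the least degree of a curve
-/

set_option autoImplicit false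
universe u

open MvPolynomial

noncomputable section

namespace Groth.Agent.PlanePts

variable (k : Type u) [Field k]

local notation "S" => MvPolynomial (Fin 3) k
local notation "K" => FractionRing (Polynomial k)
local notation "T" => MvPolynomial (Fin 3) K

/-- coefficientwise extension of scalars to `k(t)` -/
def extMap : S →ₐ[k] T := mapAlgHom (Algebra.ofId k K)

theorem coeff_extMap (f : S) (e : Fin 3 →₀ ℕ) :
    coeff e (extMap k f) = algebraMap k K (coeff e f) := by
  simp [extMap, coeff_map]

theorem extMap_injective : Function.Injective (extMap k) := fun f g h => by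
  ext e
  have := congrArg (coeff e) h
  rwa [coeff_extMap, coeff_extMap, (algebraMap k K).injective.eq_iff] at this

theorem component_mul {σ R : Type*} [CommRing R] {q : MvPolynomial σ R} (hq : q.IsHomogeneous 1)
    (g : MvPolynomial σ R) (n : ℕ) :
    homogeneousComponent (n + 1) (g * q) = homogeneousComponent n g * q := by
  classical
  conv_lhs => rw [← sum_homogeneousComponent g, Finset.sum_mul, map_sum]
  rw [Finset.sum_congr rfl fun i _ =>
    homogeneousComponent_of_mem ((homogeneousComponent_isHomogeneous i g).mul hq) (m := n + 1)]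
  simp only [Nat.add_right_cancel_iff, Finset.sum_ite_eq]
  split_ifs with h
  · rfl
  · rw [homogeneousComponent_eq_zero n g (by simpa using h), zero_mul]

variable {k}

/-- the `K`-span of a `k`-space of polynomials -/
def ext (P : Submodule k S) : Submodule K T := Submodule.span K (extMap k '' P)

theorem ext_mono {P Q : Submodule k S} (h : P ≤ Q) : ext P ≤ ext Q :=
  Submodule.span_mono (Set.image_mono h)

theorem finite_ext (P : Submodule k S) [FiniteDimensional k P] : FiniteDimensional K (ext P) := by
  obtain ⟨s, hs⟩ := (Module.Finite.iff_fg (N := P)).1 inferInstance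
  classical
  have : ext P = Submodule.span K ((s.image (extMap k) : Finset T) : Set T) := by
    refine le_antisymm (Submodule.span_le.2 ?_) (Submodule.span_le.2 ?_)
    · rintro _ ⟨x, hx, rfl⟩
      rw [← hs, SetLike.mem_coe] at hx
      have := Submodule.mem_map_of_mem (f := (extMap k).toLinearMap) hx
      rw [Submodule.map_span] at this
      rw [Finset.coe_image]
      exact Submodule.span_subset_span k K _ this
    · rw [Finset.coe_image]
      rintro _ ⟨x, hx, rfl⟩
      exact Submodule.subset_span ⟨x, hs ▸ Submodule.subset_span hx, rfl⟩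
  rw [this]
  exact Module.Finite.span_of_finite K (Finset.finite_toSet _)

theorem finrank_ext (P : Submodule k S) [FiniteDimensional k P] :
    Module.finrank K (ext P) = Module.finrank k P := by
  classical
  let b := Module.finBasis k P
  have hli : LinearIndependent K fun i => extMap k (b i : S) := by
    rw [Fintype.linearIndependent_iff]
    intro c hc i
    refine (Module.forall_dual_apply_eq_zero_iff k (c i)).1 fun ψ => ?_
    have h0 : ∑ j, ψ (c j) • (b j : S) = 0 := by
      ext e
      have := congrArg ψ (congrArg (coeff e) hc)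
      simp only [coeff_sum, coeff_smul, coeff_extMap, smul_eq_mul, map_sum, coeff_zero, map_zero,
        mul_comm (c _), ← Algebra.smul_def, map_smul] at this
      simpa [coeff_sum, mul_comm] using this
    have h1 : ∑ j, ψ (c j) • b j = 0 := Subtype.ext (by simpa using h0)
    exact Fintype.linearIndependent_iff.1 b.linearIndependent _ h1 i
  have hspan : ext P = Submodule.span K (Set.range fun i => extMap k (b i : S)) := by
    refine le_antisymm (Submodule.span_le.2 ?_) (Submodule.span_le.2 ?_)
    · rintro _ ⟨x, hx, rfl⟩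
      have : (⟨x, hx⟩ : P) = ∑ i, b.repr ⟨x, hx⟩ i • b i := (b.sum_repr _).symm
      rw [show x = ((⟨x, hx⟩ : P) : S) from rfl, this, Submodule.coe_sum, map_sum]
      refine Submodule.sum_mem _ fun i _ => ?_
      rw [Submodule.coe_smul, map_smul, ← algebraMap_smul K]
      exact Submodule.smul_mem _ _ (Submodule.subset_span ⟨i, rfl⟩)
    · rintro _ ⟨i, rfl⟩
      exact Submodule.subset_span ⟨_, (b i).2, rfl⟩
  rw [hspan, finrank_span_eq_card hli, Fintype.card_fin]

variable (k)

/-- `t` in `k(t)` -/
def t : K := algebraMap (Polynomial k) K Polynomial.X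

/-- a linear form vanishing at no rational point -/
def L : T := X 0 + C (t k) * X 1 + C (t k ^ 2) * X 2

theorem eval_L_ne_zero (p : Fin 3 → k) (hp : p ≠ 0) :
    eval (fun i => algebraMap k K (p i)) (L k) ≠ 0 := by
  intro h
  apply hp
  have h' : algebraMap (Polynomial k) K (Polynomial.C (p 0) + Polynomial.C (p 1) * Polynomial.X +
      Polynomial.C (p 2) * Polynomial.X ^ 2) = 0 := by
    rw [← h]
    simp [L, t, IsScalarTower.algebraMap_apply k (Polynomial k) K]
    ring
  rw [map_eq_zero_iff _ (IsFractionRing.injective (Polynomial k) K)] at h'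
  funext i
  have h0 := congrArg (fun q => Polynomial.coeff q 0) h'
  have h1 := congrArg (fun q => Polynomial.coeff q 1) h'
  have h2 := congrArg (fun q => Polynomial.coeff q 2) h'
  simp [Polynomial.coeff_X_pow, Polynomial.coeff_C] at h0 h1 h2
  fin_cases i <;> simp_all

/-- the substitution killing `L` -/
def proj : T →ₐ[K] MvPolynomial (Fin 2) K :=
  aeval ![- (C (t k) * X 0 + C (t k ^ 2) * X 1), X 0, X 1]

theorem proj_L : proj k (L k) = 0 := by
  simp [proj, L]

theorem proj_X1 : proj k (X 1) = X 0 := by simp [proj]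

theorem proj_X2 : proj k (X 2) = X 1 := by simp [proj]

theorem isHomogeneous_L : (L k).IsHomogeneous 1 :=
  ((isHomogeneous_X K (0 : Fin 3)).add ((isHomogeneous_X K (1 : Fin 3)).C_mul (t k))).add
    ((isHomogeneous_X K (2 : Fin 3)).C_mul (t k ^ 2))

theorem isHomogeneous_proj {f : T} {n : ℕ} (hf : f.IsHomogeneous n) :
    (proj k f).IsHomogeneous n := by
  have := hf.aeval (![- (C (t k) * X 0 + C (t k ^ 2) * X 1), X 0, X 1] :
    Fin 3 → MvPolynomial (Fin 2) K) (n := 1) fun i => by
    fin_cases i
    · exact (((isHomogeneous_X K (0 : Fin 2)).C_mul (t k)).add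
        ((isHomogeneous_X K (1 : Fin 2)).C_mul (t k ^ 2))).neg
    · exact isHomogeneous_X K 0
    · exact isHomogeneous_X K 1
  rw [one_mul] at this
  exact this

theorem L_dvd_of_proj_eq_zero (f : T) (h : proj k f = 0) : L k ∣ f := by
  let sec : MvPolynomial (Fin 2) K →ₐ[K] T := aeval ![X 1, X 2]
  let q := Ideal.Quotient.mkₐ K (Ideal.span {L k})
  have he : q.comp (sec.comp (proj k)) = q := by
    refine MvPolynomial.algHom_ext fun i => ?_
    fin_cases i
    · refine Ideal.Quotient.eq.2 (Ideal.mem_span_singleton.2 ?_)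
      refine ⟨-1, ?_⟩
      simp [sec, proj, L]
      ring
    · exact Ideal.Quotient.eq.2 (by simp [sec, proj])
    · exact Ideal.Quotient.eq.2 (by simp [sec, proj])
  have := AlgHom.congr_fun he f
  simp only [AlgHom.comp_apply, h, map_zero] at this
  rw [← Ideal.mem_span_singleton]
  exact Ideal.Quotient.eq_zero_iff_mem.1 this.symm

variable {k}

/-- two variables move a nonzero finite-dimensional space apart -/
theorem finrank_X_sup (V : Submodule K (MvPolynomial (Fin 2) K)) [FiniteDimensional K V]
    (hV : V ≠ ⊥) :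
    Module.finrank K V + 1 ≤
      Module.finrank K ↥(V.map (LinearMap.mulLeft K (X 0)) ⊔ V.map (LinearMap.mulLeft K (X 1))) := by
  classical
  have hinj : ∀ i : Fin 2, Function.Injective (LinearMap.mulLeft K (X i : MvPolynomial (Fin 2) K)) :=
    fun i => mul_right_injective₀ (X_ne_zero i)
  have hnle : ¬ V.map (LinearMap.mulLeft K (X 0)) ≤ V.map (LinearMap.mulLeft K (X 1)) := by
    intro hle
    obtain ⟨v₀, hv₀, hv₀0⟩ := (Submodule.ne_bot_iff V).1 hV
    obtain ⟨d₀, hd₀⟩ := exists_coeff_ne_zero hv₀0
    have hex : ∃ e, ∃ v ∈ V, ∃ d : Fin 2 →₀ ℕ, coeff d v ≠ 0 ∧ d 1 = e :=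
      ⟨_, v₀, hv₀, d₀, hd₀, rfl⟩
    obtain ⟨v, hv, d, hd, hde⟩ := Nat.find_spec hex
    obtain ⟨w, hw, hwv⟩ := hle (Submodule.mem_map_of_mem (f := LinearMap.mulLeft K (X 0)) hv)
    have := congrArg (coeff (Finsupp.single 0 1 + d)) hwv
    rw [LinearMap.mulLeft_apply, LinearMap.mulLeft_apply, coeff_X_mul d (0 : Fin 2) v, coeff_X_mul'] at this
    split_ifs at this with hs
    · refine Nat.find_min hex (m := (Finsupp.single (0 : Fin 2) (1 : ℕ) + d - Finsupp.single (1 : Fin 2) (1 : ℕ)) 1) ?_
        ⟨w, hw, _, by rw [this]; exact hd, rfl⟩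
      simp [Finsupp.mem_support_iff] at hs
      simp [← hde]
      omega
    · exact hd this.symm
  have h1 : V.map (LinearMap.mulLeft K (X 1)) <
      V.map (LinearMap.mulLeft K (X 0)) ⊔ V.map (LinearMap.mulLeft K (X 1)) :=
    lt_of_le_of_ne le_sup_right fun h => hnle (h ▸ le_sup_left)
  have h2 := Submodule.finrank_lt_finrank_of_lt h1
  rw [← LinearEquiv.finrank_eq (Submodule.equivMapOfInjective _ (hinj 1) V)] at h2
  omega

theorem finrank_eq_map_add {M M' : Type*} [AddCommGroup M] [Module K M] [AddCommGroup M']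
    [Module K M'] (g : M →ₗ[K] M') (W : Submodule K M) [FiniteDimensional K W] :
    Module.finrank K W = Module.finrank K (W.map g) + Module.finrank K ↥(W ⊓ LinearMap.ker g) := by
  rw [← (g.domRestrict W).finrank_range_add_finrank_ker, LinearMap.range_domRestrict]
  congr 1
  rw [LinearMap.ker_domRestrict]
  exact LinearEquiv.finrank_eq
    ((Submodule.equivMapOfInjective W.subtype W.injective_subtype _).trans
      (LinearEquiv.ofEq _ _ (Submodule.map_comap_subtype _ _)))

variable (Z : Finset (Fin 3 → k))

/-- forms of degree `n` vanishing on `Z` -/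
def piece (n : ℕ) : Submodule k S :=
  homogeneousSubmodule (Fin 3) k n ⊓ ⨅ p ∈ Z, LinearMap.ker (aeval p).toLinearMap

theorem mem_piece {n : ℕ} {f : S} :
    f ∈ piece Z n ↔ f.IsHomogeneous n ∧ ∀ p ∈ Z, eval p f = 0 := by
  simp [piece, Submodule.mem_iInf, aeval_eq_eval]

instance (n : ℕ) : FiniteDimensional k (piece Z n) :=
  Submodule.finiteDimensional_of_le (inf_le_left : piece Z n ≤ _)

/-- the products of the variables with the forms of degree `n` -/
def up (n : ℕ) : Submodule k S := ⨆ i : Fin 3, (piece Z n).map (LinearMap.mulLeft k (X i))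

instance (n : ℕ) : FiniteDimensional k (up Z n) := by
  unfold up; infer_instance

theorem up_le (n : ℕ) : up Z n ≤ piece Z (n + 1) := by
  refine iSup_le fun i => ?_
  rintro _ ⟨f, hf, rfl⟩
  rw [SetLike.mem_coe, mem_piece] at hf
  rw [mem_piece, add_comm n]
  exact ⟨(isHomogeneous_X k i).mul hf.1, fun p hp => by simp [hf.2 p hp]⟩

theorem mem_ext_piece {n : ℕ} {f : T} :
    f ∈ ext (piece Z n) ↔
      f.IsHomogeneous n ∧ ∀ p ∈ Z, eval (fun i => algebraMap k K (p i)) f = 0 := by
  classical
  have hev : ∀ (p : Fin 3 → k) (g : S),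
      eval (fun i => algebraMap k K (p i)) (extMap k g) = algebraMap k K (eval p g) := by
    intro p g
    rw [show extMap k g = MvPolynomial.map (algebraMap k K) g from rfl, eval_map]
    exact (eval₂_comp_left (algebraMap k K) (RingHom.id k) p g).symm
  constructor
  · intro hf
    induction hf using Submodule.span_induction with
    | mem x hx =>
      obtain ⟨g, hg, rfl⟩ := hx
      rw [SetLike.mem_coe, mem_piece] at hg
      exact ⟨hg.1.map _, fun p hp => by rw [hev, hg.2 p hp, map_zero]⟩
    | zero => exact ⟨isHomogeneous_zero _ _ _, by simp⟩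
    | add x y _ _ hx hy => exact ⟨hx.1.add hy.1, fun p hp => by simp [hx.2 p hp, hy.2 p hp]⟩
    | smul c x _ hx =>
      exact ⟨by rw [smul_eq_C_mul]; exact hx.1.C_mul c, fun p hp => by simp [smul_eval, hx.2 p hp]⟩
  · rintro ⟨hhom, hval⟩
    let P := Submodule.span k ((f.support.image fun e => coeff e f : Finset K) : Set K)
    haveI : FiniteDimensional k P := Module.Finite.span_of_finite k (Finset.finite_toSet _)
    obtain ⟨π, hπ⟩ := LinearMap.exists_leftInverse_of_injective P.subtype P.ker_subtype
    let b := Module.finBasis k P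
    let ψ : Fin (Module.finrank k P) → K →ₗ[k] k := fun i => (b.coord i).comp π
    have hexp : ∀ c ∈ P, c = ∑ i, algebraMap k K (ψ i c) * (b i : K) := by
      intro c hc
      have h1 : π c = ⟨c, hc⟩ := LinearMap.congr_fun hπ ⟨c, hc⟩
      have h2 := congrArg Subtype.val (b.sum_repr (π c))
      rw [Submodule.coe_sum, h1] at h2
      refine h2.symm.trans (Finset.sum_congr rfl fun i _ => ?_)
      simp [ψ, h1, Algebra.smul_def]
    let g : Fin (Module.finrank k P) → S := fun i =>
      ∑ e ∈ f.support, monomial e (ψ i (coeff e f))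
    have hfg : f = ∑ i, (b i : K) • extMap k (g i) := by
      ext e
      simp only [coeff_sum, coeff_smul, coeff_extMap, g, coeff_monomial, Finset.sum_ite_eq']
      by_cases he : e ∈ f.support
      · conv_lhs => rw [hexp (coeff e f) (Submodule.subset_span (by
          rw [Finset.coe_image]; exact ⟨e, he, rfl⟩))]
        refine Finset.sum_congr rfl fun i _ => ?_
        rw [if_pos he, smul_eq_mul, mul_comm]
      · simp [he, notMem_support_iff.1 he]
    have hg : ∀ i, g i ∈ piece Z n := by
      intro i
      rw [mem_piece]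
      refine ⟨IsHomogeneous.sum _ _ _ fun e he => isHomogeneous_monomial _ ?_, fun p hp => ?_⟩
      · by_contra hne
        exact mem_support_iff.1 he (hhom.coeff_eq_zero hne)
      · have h1 := congrArg (ψ i) (hval p hp)
        rw [map_zero, eval_eq, map_sum] at h1
        rw [map_sum, ← h1]
        refine Finset.sum_congr rfl fun e _ => ?_
        rw [eval_monomial, Finsupp.prod]
        simp only [← map_pow, ← map_prod]
        rw [mul_comm (coeff e f), ← Algebra.smul_def, map_smul, smul_eq_mul, mul_comm]
    rw [hfg]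
    exact Submodule.sum_mem _ fun i _ =>
      Submodule.smul_mem _ _ (Submodule.subset_span ⟨g i, hg i, rfl⟩)

/-- dimension of the preceding piece -/
def prevDim : ℕ → ℕ
  | 0 => 0
  | n + 1 => Module.finrank k (piece Z n)

variable (hZ : ∀ p ∈ Z, p ≠ 0)
include hZ

theorem finrank_ker (n : ℕ) :
    Module.finrank K ↥(ext (piece Z n) ⊓ LinearMap.ker (proj k).toLinearMap) ≤ prevDim Z n := by
  haveI := fun m => finite_ext (piece Z m)
  cases n with
  | zero =>
    rw [show ext (piece Z 0) ⊓ LinearMap.ker (proj k).toLinearMap = ⊥ from ?_, finrank_bot]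
    · exact Nat.zero_le _
    rw [eq_bot_iff]
    rintro f ⟨hf, hker⟩
    obtain ⟨g, rfl⟩ := L_dvd_of_proj_eq_zero k f hker
    have h0 := homogeneousComponent_of_mem ((mem_ext_piece Z).1 hf).1 (m := 0)
    rw [if_pos rfl, homogeneousComponent_zero] at h0
    rw [Submodule.mem_bot, ← h0, ← constantCoeff_eq, map_mul]
    simp [L]
  | succ n =>
    show _ ≤ Module.finrank k (piece Z n)
    rw [← finrank_ext (piece Z n)]
    refine le_trans (Submodule.finrank_mono ?_)
      (Submodule.finrank_map_le (LinearMap.mulLeft K (L k)) (ext (piece Z n)))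
    rintro f ⟨hf, hker⟩
    obtain ⟨g, rfl⟩ := L_dvd_of_proj_eq_zero k f hker
    obtain ⟨hhom, hval⟩ := (mem_ext_piece Z).1 hf
    refine ⟨homogeneousComponent n g, (mem_ext_piece Z).2
      ⟨homogeneousComponent_isHomogeneous n g, fun p hp => ?_⟩, ?_⟩
    all_goals
      have hc : L k * homogeneousComponent n g = L k * g := by
        have h1 := homogeneousComponent_of_mem hhom (m := n + 1)
        rw [if_pos rfl] at h1
        conv_rhs => rw [← h1]
        rw [mul_comm (L k) g, Groth.Agent.PlanePts.component_mul (isHomogeneous_L k), mul_comm]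
    · have h2 := congrArg (eval fun i => algebraMap k K (p i)) hc
      rw [map_mul, map_mul, ← map_mul _ _ g, hval p hp] at h2
      exact (mul_eq_zero.1 h2).resolve_left (eval_L_ne_zero k p (hZ p hp))
    · exact hc

theorem dim_piece_le (n : ℕ) : Module.finrank k (piece Z n) ≤ n + 1 + prevDim Z n := by
  haveI := finite_ext (piece Z n)
  rw [← finrank_ext (piece Z n), finrank_eq_map_add (proj k).toLinearMap]
  refine add_le_add ?_ (finrank_ker Z hZ n)
  refine (Submodule.finrank_mono (t := homogeneousSubmodule (Fin 2) K n) ?_).trans ?_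
  · rintro _ ⟨f, hf, rfl⟩
    exact isHomogeneous_proj k ((mem_ext_piece Z).1 hf).1
  · rw [finrank_forms]; simp [add_comm]

theorem dim_up_ge (n : ℕ) (h : prevDim Z n < Module.finrank k (piece Z n)) :
    2 * Module.finrank k (piece Z n) + 1 ≤ Module.finrank k (up Z n) + prevDim Z n := by
  haveI := finite_ext (piece Z n)
  haveI := finite_ext (up Z n)
  set W := ext (piece Z n)
  set g := (proj k).toLinearMap
  have hmul : ∀ i : Fin 3, W.map (LinearMap.mulLeft K (X i)) ≤ ext (up Z n) := by
    intro i
    rw [show W = ext (piece Z n) from rfl, ext, Submodule.map_span, Submodule.span_le]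
    rintro _ ⟨_, ⟨f, hf, rfl⟩, rfl⟩
    refine Submodule.subset_span ⟨X i * f, Submodule.mem_iSup_of_mem i ⟨f, hf, rfl⟩, ?_⟩
    simp [extMap]
  have hL : W.map (LinearMap.mulLeft K (L k)) ≤ ext (up Z n) ⊓ LinearMap.ker g := by
    rintro _ ⟨f, hf, rfl⟩
    refine ⟨?_, by simp [g, proj_L]⟩
    simp only [LinearMap.mulLeft_apply, L, add_mul, mul_assoc, C_mul', smul_mul_assoc]
    exact add_mem (add_mem (hmul 0 ⟨f, hf, rfl⟩) (Submodule.smul_mem _ _ (hmul 1 ⟨f, hf, rfl⟩)))
      (Submodule.smul_mem _ _ (hmul 2 ⟨f, hf, rfl⟩))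
  have hV : (W.map g).map (LinearMap.mulLeft K (X 0)) ⊔ (W.map g).map (LinearMap.mulLeft K (X 1)) ≤
      (ext (up Z n)).map g := by
    refine sup_le ?_ ?_
    · rintro _ ⟨_, ⟨f, hf, rfl⟩, rfl⟩
      exact ⟨X 1 * f, hmul 1 ⟨f, hf, rfl⟩, by simp [g, proj_X1]⟩
    · rintro _ ⟨_, ⟨f, hf, rfl⟩, rfl⟩
      exact ⟨X 2 * f, hmul 2 ⟨f, hf, rfl⟩, by simp [g, proj_X2]⟩
  have hW := finrank_eq_map_add g W
  have hk := finrank_ker Z hZ n
  rw [finrank_ext] at hW
  have hne : W.map g ≠ ⊥ := by
    intro h0
    rw [h0, finrank_bot, zero_add] at hW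
    rw [hW] at h
    exact absurd h (not_lt.2 hk)
  have h1 := (finrank_X_sup _ hne).trans (Submodule.finrank_mono hV)
  have h2 := Submodule.finrank_mono hL
  have hLne : L k ≠ 0 := fun h0 =>
    eval_L_ne_zero k ![1, 0, 0] (fun h => by simpa using congrFun h 0) (by rw [h0, map_zero])
  rw [← LinearEquiv.finrank_eq (Submodule.equivMapOfInjective _
    (mul_right_injective₀ hLne) W), finrank_ext] at h2
  have hU := finrank_eq_map_add g (ext (up Z n))
  rw [finrank_ext] at hU
  change _ ≤ Module.finrank K ↥(ext (up Z n) ⊓ LinearMap.ker g) at h2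
  have hk' : Module.finrank K ↥(W ⊓ LinearMap.ker g) ≤ prevDim Z n := hk
  omega

/-- few generators up to each degree -/
theorem exists_gens (d₀ : ℕ) (hlow : ∀ m, m < d₀ → piece Z m = ⊥) (hd₀ : piece Z d₀ ≠ ⊥) (n : ℕ)
    (hn : d₀ ≤ n) :
    ∃ G : Finset S, (∀ g ∈ G, ∃ m, g ∈ piece Z m) ∧
      G.card + n + prevDim Z n ≤ Module.finrank k (piece Z n) + d₀ ∧ 1 ≤ G.card ∧
      ∀ m, m ≤ n → (piece Z m : Set S) ⊆ Ideal.span (G : Set S) := by
  classical
  induction n, hn using Nat.le_induction with
  | base =>
    let b := Module.finBasis k (piece Z d₀)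
    have hprev : prevDim Z d₀ = 0 := by
      cases d₀ with
      | zero => rfl
      | succ d => simp [prevDim, hlow d (by omega)]
    refine ⟨Finset.univ.image fun i => (b i : S), ?_, ?_, ?_, ?_⟩
    · intro g hg
      obtain ⟨i, -, rfl⟩ := Finset.mem_image.1 hg
      exact ⟨d₀, (b i).2⟩
    · have := Finset.card_image_le (s := Finset.univ) (f := fun i => (b i : S))
      rw [Finset.card_univ, Fintype.card_fin] at this
      omega
    · rw [Nat.one_le_iff_ne_zero, ← Nat.pos_iff_ne_zero, Finset.card_pos, Finset.image_nonempty,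
        Finset.univ_nonempty_iff, ← Fin.pos_iff_nonempty]
      exact Nat.pos_of_ne_zero fun h0 => hd₀ (Submodule.finrank_eq_zero.1 h0)
    · intro m hm f hf
      rcases hm.lt_or_eq with hlt | rfl
      · rw [SetLike.mem_coe, hlow m hlt, Submodule.mem_bot] at hf
        rw [hf]; exact zero_mem _
      · have := congrArg Subtype.val (b.sum_repr ⟨f, hf⟩)
        rw [show f = _ from this.symm, SetLike.mem_coe, Submodule.coe_sum]
        refine Submodule.sum_mem _ fun i _ => ?_
        rw [Submodule.coe_smul]
        exact Submodule.smul_of_tower_mem _ _ (Ideal.subset_span (Finset.mem_image.2 ⟨i, by simp, rfl⟩))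
  | succ n hn ih =>
    obtain ⟨G, hG, hcard, hone, hspan⟩ := ih
    obtain ⟨C, hC⟩ := Submodule.exists_isCompl ((up Z n).comap (piece Z (n + 1)).subtype)
    haveI : Module.Free k C := Module.Free.of_divisionRing k C
    let b := Module.finBasis k C
    have hsum := Submodule.finrank_add_eq_of_isCompl hC
    have hcomap : Module.finrank k ↥((up Z n).comap (piece Z (n + 1)).subtype) =
        Module.finrank k (up Z n) :=
      (Submodule.comapSubtypeEquivOfLe (up_le Z n)).finrank_eq
    rw [hcomap] at hsum
    have hup := dim_up_ge Z hZ n (by omega)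
    refine ⟨G ∪ Finset.univ.image (fun i => ((b i : piece Z (n + 1)) : S)), ?_, ?_, ?_, ?_⟩
    · intro g hg
      rcases Finset.mem_union.1 hg with hg | hg
      · exact hG g hg
      · obtain ⟨i, -, rfl⟩ := Finset.mem_image.1 hg
        exact ⟨n + 1, (b i : piece Z (n + 1)).2⟩
    · have h1 := Finset.card_union_le G (Finset.univ.image fun i => ((b i : piece Z (n + 1)) : S))
      have h2 := Finset.card_image_le (s := Finset.univ) (f := fun i => ((b i : piece Z (n + 1)) : S))
      rw [Finset.card_univ, Fintype.card_fin] at h2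
      show _ + _ + Module.finrank k (piece Z n) ≤ _
      omega
    · exact hone.trans (Finset.card_le_card Finset.subset_union_left)
    · intro m hm f hf
      rcases hm.lt_or_eq with hlt | rfl
      · exact Ideal.span_mono (by exact_mod_cast Finset.subset_union_left) (hspan m (by omega) hf)
      · obtain ⟨x, hx, y, hy, hxy⟩ := Submodule.mem_sup.1
          (show (⟨f, hf⟩ : piece Z (n + 1)) ∈ (up Z n).comap (piece Z (n + 1)).subtype ⊔ C by
            rw [hC.sup_eq_top]; trivial)
        rw [show f = (x : S) + (y : S) from (congrArg Subtype.val hxy).symm]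
        refine add_mem ?_ ?_
        · have hle : up Z n ≤ (Ideal.span (G : Set S)).restrictScalars k := iSup_le fun i => by
            rintro _ ⟨g, hg, rfl⟩
            exact Ideal.mul_mem_left _ _ (hspan n le_rfl hg)
          exact Ideal.span_mono (by exact_mod_cast Finset.subset_union_left) (hle hx)
        · have := congrArg Subtype.val (congrArg Subtype.val (b.sum_repr ⟨y, hy⟩))
          simp only [Submodule.coe_sum, Submodule.coe_smul] at this
          rw [← this]
          refine Submodule.sum_mem _ fun i _ => Submodule.smul_of_tower_mem _ _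
            (Ideal.subset_span ?_)
          simp only [Finset.coe_union, Finset.coe_image, Finset.coe_univ, Set.image_univ]
          exact Or.inr ⟨i, rfl⟩

theorem spanFinrank_le (I : Ideal S)
    (hI : ∀ f : S, f ∈ I ↔ ∀ p ∈ Z, ∀ j : ℕ, eval p (homogeneousComponent j f) = 0)
    (d : ℕ) (hf : ∃ f ∈ I, f.IsHomogeneous d ∧ f ≠ 0) : Submodule.spanFinrank I ≤ d + 1 := by
  classical
  have hpiece : ∀ (n : ℕ) (f : S), f.IsHomogeneous n → (f ∈ I ↔ f ∈ piece Z n) := by
    intro n f hhom
    rw [hI, mem_piece]
    refine ⟨fun h => ⟨hhom, fun p hp => ?_⟩, fun h p hp j => ?_⟩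
    · have := h p hp n
      rwa [homogeneousComponent_of_mem hhom, if_pos rfl] at this
    · rw [homogeneousComponent_of_mem hhom]
      split_ifs
      · exact h.2 p hp
      · simp
  have hex : ∃ n, piece Z n ≠ ⊥ := by
    obtain ⟨f, hfI, hhom, hf0⟩ := hf
    exact ⟨d, (Submodule.ne_bot_iff _).2 ⟨f, (hpiece d f hhom).1 hfI, hf0⟩⟩
  set d₀ := Nat.find hex
  have hd : d₀ ≤ d := by
    obtain ⟨f, hfI, hhom, hf0⟩ := hf
    exact Nat.find_le ((Submodule.ne_bot_iff _).2 ⟨f, (hpiece d f hhom).1 hfI, hf0⟩)
  obtain ⟨s, hs⟩ := IsNoetherian.noetherian I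
  set N := d₀ + s.sup totalDegree
  obtain ⟨G, hG, hcard, hone, hspan⟩ := exists_gens Z hZ d₀
    (fun m hm => not_not.1 (Nat.find_min hex hm)) (Nat.find_spec hex) N (Nat.le_add_right _ _)
  have hIG : I = Ideal.span (G : Set S) := by
    refine le_antisymm ?_ (Ideal.span_le.2 fun g hg => ?_)
    · rw [← hs, Submodule.span_le]
      intro f hfs
      rw [SetLike.mem_coe, ← sum_homogeneousComponent f]
      refine Submodule.sum_mem _ fun j hj => ?_
      have hhom := homogeneousComponent_isHomogeneous j f
      refine hspan j ?_ ((hpiece j _ hhom).1 ?_)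
      · have := Finset.mem_range.1 hj
        have h2 := Finset.le_sup (f := totalDegree) hfs
        omega
      · rw [hI]
        intro p hp i
        rw [homogeneousComponent_of_mem hhom]
        split_ifs with h
        · subst h
          exact (hI f).1 (hs ▸ Submodule.subset_span hfs) p hp _
        · simp
    · obtain ⟨m, hm⟩ := hG g hg
      exact (hpiece m g ((mem_piece Z).1 hm).1).2 hm
  rw [hIG]
  refine (Submodule.spanFinrank_span_le_ncard_of_finite (Finset.finite_toSet G)).trans ?_
  rw [Set.ncard_coe_finset]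
  have := dim_piece_le Z hZ N
  omega

end Groth.Agent.PlanePts
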