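import Groth.Agent.PlanePts.Forms
import Mathlib.LinearAlgebra.Dual.Lemmas
import Mathlib.LinearAlgebra.LinearIndependent.Lemmas

/-!
# Forms separating finitely many points
-/

set_option autoImplicit false
universe u

open MvPolynomial

noncomputable section

namespace Groth.Agent.PlanePts

variable {k : Type u} [Field k] {N : ℕ}

/-- the linear form of a linear functional -/
def linForm (ℓ : (Fin N → k) →ₗ[k] k) : MvPolynomial (Fin N) k :=
  ∑ i, C (ℓ (Pi.single i 1)) * X i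

theorem isHomogeneous_linForm (ℓ : (Fin N → k) →ₗ[k] k) : (linForm ℓ).IsHomogeneous 1 :=
  IsHomogeneous.sum _ _ _ fun i _ => (isHomogeneous_X k i).C_mul _

theorem eval_linForm (ℓ : (Fin N → k) →ₗ[k] k) (v : Fin N → k) : eval v (linForm ℓ) = ℓ v := by
  conv_rhs => rw [pi_eq_sum_univ' v, map_sum]
  simp [linForm, map_sum, mul_comm]

theorem exists_form {ι : Type*} (s : Finset ι) (ℓ : ι → (Fin N → k) →ₗ[k] k) (v : Fin N → k)
    (hv : ∀ i ∈ s, ℓ i v ≠ 0) :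
    ∃ F : MvPolynomial (Fin N) k, F.IsHomogeneous s.card ∧ eval v F ≠ 0 ∧
      ∀ w : Fin N → k, (∃ i ∈ s, ℓ i w = 0) → eval w F = 0 := by
  refine ⟨∏ i ∈ s, linForm (ℓ i), ?_, ?_, ?_⟩
  · have := IsHomogeneous.prod s (fun i => linForm (ℓ i)) (fun _ => 1) fun i _ =>
      isHomogeneous_linForm (ℓ i)
    simpa using this
  · rw [map_prod, Finset.prod_ne_zero_iff]
    exact fun i hi => by rw [eval_linForm]; exact hv i hi
  · rintro w ⟨i, hi, hw⟩
    rw [map_prod]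
    exact Finset.prod_eq_zero hi (by rw [eval_linForm, hw])

theorem exists_dual (W : Submodule k (Fin N → k)) {v : Fin N → k} (hv : v ∉ W) :
    ∃ ℓ : (Fin N → k) →ₗ[k] k, ℓ v ≠ 0 ∧ ∀ w ∈ W, ℓ w = 0 := by
  obtain ⟨ℓ, hℓv, hℓ⟩ := Submodule.exists_dual_map_eq_bot_of_notMem hv inferInstance
  exact ⟨ℓ, hℓv, fun w hw => by
    have := Submodule.mem_map_of_mem (f := ℓ) hw
    rwa [hℓ, Submodule.mem_bot] at this⟩

theorem exists_sep [DecidableEq (Fin N → k)] (Λ : Finset (Fin N → k))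
    (hdist : ∀ v ∈ Λ, ∀ w ∈ Λ, v ≠ w → LinearIndependent k ![v, w]) {v : Fin N → k} (hv : v ∈ Λ) :
    ∃ F : MvPolynomial (Fin N) k, F.IsHomogeneous (Λ.card - 1) ∧ eval v F ≠ 0 ∧
      ∀ w ∈ Λ, w ≠ v → eval w F = 0 := by
  have h : ∀ w ∈ Λ.erase v, ∃ ℓ : (Fin N → k) →ₗ[k] k, ℓ v ≠ 0 ∧ ℓ w = 0 := by
    intro w hw
    obtain ⟨hne, hw⟩ := Finset.mem_erase.1 hw
    have hli := hdist v hv w hw hne.symm
    have : v ∉ Submodule.span k {w} := by
      intro hmem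
      obtain ⟨c, hc⟩ := Submodule.mem_span_singleton.1 hmem
      have := LinearIndependent.pair_iff.1 hli 1 (-c) (by simp [← hc])
      exact one_ne_zero this.1
    obtain ⟨ℓ, h1, h2⟩ := exists_dual _ this
    exact ⟨ℓ, h1, h2 w (Submodule.mem_span_singleton_self w)⟩
  choose! ℓ h1 h2 using h
  obtain ⟨F, hF, hv', hw'⟩ := exists_form (Λ.erase v) ℓ v h1
  refine ⟨F, by rwa [Finset.card_erase_of_mem hv] at hF, hv', fun w hw hne => hw' w ?_⟩
  exact ⟨w, Finset.mem_erase.2 ⟨hne, hw⟩, h2 w (Finset.mem_erase.2 ⟨hne, hw⟩)⟩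

theorem exists_form_avoid [DecidableEq (Fin N → k)] (Λ : Finset (Fin N → k)) {n : ℕ} (hn : 2 ≤ n)
    (hcard : Λ.card = n)
    (hline : ¬ ∃ ℓ : (Fin N → k) →ₗ[k] k, ℓ ≠ 0 ∧ ∀ v ∈ Λ, ℓ v = 0)
    (hN : 3 ≤ N) {v : Fin N → k} (hv : ∀ w ∈ Λ, v ∉ Submodule.span k {w}) :
    ∃ F : MvPolynomial (Fin N) k, F.IsHomogeneous (n - 1) ∧ eval v F ≠ 0 ∧
      ∀ w ∈ Λ, eval w F = 0 := by
  obtain ⟨w₁, hw₁⟩ : Λ.Nonempty := Finset.card_pos.1 (by omega)
  obtain ⟨w₂, hw₂, hne, hv12⟩ : ∃ w₂ ∈ Λ, w₂ ≠ w₁ ∧ v ∉ Submodule.span k {w₁, w₂} := by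
    by_contra hcon
    push Not at hcon
    apply hline
    set W := Submodule.span k ({w₁, v} : Set (Fin N → k))
    have hW : W < ⊤ := by
      refine lt_top_iff_ne_top.2 fun h => ?_
      have h1 := finrank_span_finset_le_card (R := k) ({w₁, v} : Finset (Fin N → k))
      rw [Finset.coe_insert, Finset.coe_singleton, Set.finrank, show Submodule.span k ({w₁, v} : Set (Fin N → k)) = W from rfl,
        h, finrank_top, Module.finrank_fintype_fun_eq_card, Fintype.card_fin] at h1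
      have := Finset.card_le_two (a := w₁) (b := v)
      omega
    obtain ⟨ℓ, hℓ0, hℓ⟩ := Submodule.exists_le_ker_of_lt_top W hW
    refine ⟨ℓ, hℓ0, fun w hw => LinearMap.mem_ker.1 (hℓ ?_)⟩
    rcases eq_or_ne w w₁ with rfl | hne
    · exact Submodule.subset_span (by simp)
    · have hvw := hcon w hw hne
      rw [Set.pair_comm] at hvw
      have := mem_span_insert_exchange hvw (hv w₁ hw₁)
      rw [Set.pair_comm] at this
      exact this
  have h : ∀ w ∈ Λ.erase w₁, ∃ ℓ : (Fin N → k) →ₗ[k] k, ℓ v ≠ 0 ∧ ℓ w = 0 ∧ (w = w₂ → ℓ w₁ = 0) := by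
    intro w hw
    rcases eq_or_ne w w₂ with rfl | hne'
    · obtain ⟨ℓ, h1, h2⟩ := exists_dual _ hv12
      exact ⟨ℓ, h1, h2 w (Submodule.subset_span (by simp)), fun _ => h2 w₁ (Submodule.subset_span (by simp))⟩
    · obtain ⟨ℓ, h1, h2⟩ := exists_dual _ (hv w (Finset.mem_of_mem_erase hw))
      exact ⟨ℓ, h1, h2 w (Submodule.mem_span_singleton_self w), fun h => absurd h hne'⟩
  choose! ℓ h1 h2 h3 using h
  obtain ⟨F, hF, hv', hw'⟩ := exists_form (Λ.erase w₁) ℓ v h1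
  refine ⟨F, by rwa [Finset.card_erase_of_mem hw₁, hcard] at hF, hv', fun w hw => hw' w ?_⟩
  rcases eq_or_ne w w₁ with rfl | hne'
  · exact ⟨w₂, Finset.mem_erase.2 ⟨hne, hw₂⟩, h3 w₂ (Finset.mem_erase.2 ⟨hne, hw₂⟩) rfl⟩
  · exact ⟨w, Finset.mem_erase.2 ⟨hne', hw⟩, h2 w (Finset.mem_erase.2 ⟨hne', hw⟩)⟩

end Groth.Agent.PlanePts
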